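import Mathlib
import Groth.Prelude.Def_PP16
import Groth.Agent.Lib.Helper5.GrSym.L

set_option autoImplicit false

namespace Groth.Agent.H5.DS0

open TensorProduct

universe u

section nabla

variable (A B : Type u) [CommRing A] [CommRing B] [Algebra A B]

local notation "II" => KaehlerDifferential.ideal A B

/-- The derivation `id ⊗ D` of `B ⊗ B`, linear for the first factor. -/
noncomputable def nabla (D : Derivation A B B) : B ⊗[A] B →ₗ[B] B ⊗[A] B :=
  TensorProduct.AlgebraTensorModule.map (LinearMap.id : B →ₗ[B] B) (D : B →ₗ[A] B)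

@[simp] lemma nabla_tmul (D : Derivation A B B) (b c : B) :
    nabla A B D (b ⊗ₜ[A] c) = b ⊗ₜ[A] D c := by
  simp [nabla]

lemma nabla_mul (D : Derivation A B B) (x y : B ⊗[A] B) :
    nabla A B D (x * y) = x * nabla A B D y + nabla A B D x * y := by
  induction x using TensorProduct.induction_on with
  | zero => simp
  | add x₁ x₂ h₁ h₂ => rw [add_mul, map_add, h₁, h₂, map_add]; ring
  | tmul b c =>
    induction y using TensorProduct.induction_on with
    | zero => simp
    | add y₁ y₂ h₁ h₂ => rw [mul_add, map_add, h₁, h₂, map_add]; ring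
    | tmul b' c' =>
      simp only [Algebra.TensorProduct.tmul_mul_tmul, nabla_tmul, Derivation.leibniz, smul_eq_mul,
        TensorProduct.tmul_add]
      rw [mul_comm c' (D c)]

lemma nabla_mem (D : Derivation A B B) (k : ℕ) (x : B ⊗[A] B) (hx : x ∈ II ^ (k + 1)) :
    nabla A B D x ∈ II ^ k := by
  induction k generalizing x with
  | zero => simp
  | succ k ih =>
    rw [pow_succ] at hx
    refine Submodule.mul_induction_on hx ?_ ?_
    · intro a ha b hb
      rw [nabla_mul]
      refine Ideal.add_mem _ (Ideal.mul_mem_right _ _ ha) ?_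
      rw [pow_succ]
      exact Ideal.mul_mem_mul (ih a ha) hb
    · intro a b ha hb
      rw [map_add]
      exact Ideal.add_mem _ ha hb

/-- `μ ∘ ∇_D` computes the pairing of the linear form with the class in `Ω`. -/
lemma lmul_nabla (ℓ : Ω[B⁄A] →ₗ[B] B) (x : B ⊗[A] B) (hx : x ∈ II) :
    Algebra.TensorProduct.lmul' A
      (nabla A B (ℓ.compDer (KaehlerDifferential.D A B)) x) =
        ℓ (KaehlerDifferential.fromIdeal A B ⟨x, hx⟩) := by
  have hx' : x ∈ Submodule.span B (Set.range fun s : B => (1 : B) ⊗ₜ[A] s - s ⊗ₜ[A] (1 : B)) := by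
    rw [KaehlerDifferential.submodule_span_range_eq_ideal]; exact hx
  have key : ∀ (y : B ⊗[A] B)
      (_ : y ∈ Submodule.span B (Set.range fun s : B => (1 : B) ⊗ₜ[A] s - s ⊗ₜ[A] (1 : B))),
      ∀ hy : y ∈ II, Algebra.TensorProduct.lmul' A
        (nabla A B (ℓ.compDer (KaehlerDifferential.D A B)) y) =
          ℓ (KaehlerDifferential.fromIdeal A B ⟨y, hy⟩) := by
    intro y hy
    induction hy using Submodule.span_induction with
    | mem y hy =>
      obtain ⟨s, rfl⟩ := hy
      intro hy'
      rw [map_sub, nabla_tmul, nabla_tmul, map_sub, Algebra.TensorProduct.lmul'_apply_tmul,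
        Algebra.TensorProduct.lmul'_apply_tmul, Derivation.map_one_eq_zero, mul_zero, sub_zero,
        one_mul]
      rfl
    | zero =>
      intro hy'
      rw [map_zero, map_zero]
      have : (⟨0, hy'⟩ : II) = 0 := rfl
      rw [this, map_zero, map_zero]
    | add a b ha hb iha ihb =>
      intro hy'
      have ha' : a ∈ II := by
        rw [← Submodule.restrictScalars_mem B, ← KaehlerDifferential.submodule_span_range_eq_ideal]
        exact ha
      have hb' : b ∈ II := by
        rw [← Submodule.restrictScalars_mem B, ← KaehlerDifferential.submodule_span_range_eq_ideal]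
        exact hb
      have : (⟨a + b, hy'⟩ : II) = ⟨a, ha'⟩ + ⟨b, hb'⟩ := rfl
      rw [map_add, map_add, iha ha', ihb hb', this, map_add, map_add]
    | smul r a ha iha =>
      intro hy'
      have ha' : a ∈ II := by
        rw [← Submodule.restrictScalars_mem B, ← KaehlerDifferential.submodule_span_range_eq_ideal]
        exact ha
      have : (⟨r • a, hy'⟩ : II) = (algebraMap B (B ⊗[A] B) r) • ⟨a, ha'⟩ := by
        apply Subtype.ext
        change r • a = algebraMap B (B ⊗[A] B) r • a
        rw [algebraMap_smul]
      have h1 : KaehlerDifferential.fromIdeal A B (algebraMap B (B ⊗[A] B) r • ⟨a, ha'⟩) =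
          r • KaehlerDifferential.fromIdeal A B ⟨a, ha'⟩ := by
        rw [map_smul, algebraMap_smul]
      have h2 : nabla A B (ℓ.compDer (KaehlerDifferential.D A B)) (r • a) =
          algebraMap B (B ⊗[A] B) r * nabla A B (ℓ.compDer (KaehlerDifferential.D A B)) a := by
        rw [map_smul, Algebra.smul_def]
      rw [this, h1, h2, ℓ.map_smul, ← iha ha', map_mul, Algebra.TensorProduct.algebraMap_apply,
        Algebra.TensorProduct.lmul'_apply_tmul]
      simp
  exact key x hx' hx

end nabla

end Groth.Agent.H5.DS0
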