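import Mathlib
import Groth.Prelude.Def_PP16
import Groth.Agent.Lib.Helper5.DS0.A

set_option autoImplicit false

namespace Groth.Agent.H5.DS0

open TensorProduct MvPolynomial

universe u

section T

variable (A B : Type u) [CommRing A] [CommRing B] [Algebra A B]
  {κ : Type*} [DecidableEq κ] (y : κ → B ⊗[A] B) (D : Derivation A B B) (l₀ : κ)

local notation "II" => KaehlerDifferential.ideal A B

/-- The compatibility predicate between `∇_D ∘ aeval y` and `aeval y ∘ ∂/∂X_{l₀}` modulo `I^k`. -/
def T (p : MvPolynomial κ B) (k : ℕ) : Prop :=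
  aeval y p ∈ II ^ k ∧ nabla A B D (aeval y p) - aeval y (pderiv l₀ p) ∈ II ^ k

lemma T_one : T A B y D l₀ 1 0 := by
  simp [T]

lemma T_mul {p q : MvPolynomial κ B} {k l : ℕ} (hp : T A B y D l₀ p k) (hq : T A B y D l₀ q l) :
    T A B y D l₀ (p * q) (k + l) := by
  refine ⟨?_, ?_⟩
  · rw [map_mul, pow_add]
    exact Ideal.mul_mem_mul hp.1 hq.1
  · have h : nabla A B D (aeval y (p * q)) - aeval y (pderiv l₀ (p * q)) =
        aeval y p * (nabla A B D (aeval y q) - aeval y (pderiv l₀ q)) +
          (nabla A B D (aeval y p) - aeval y (pderiv l₀ p)) * aeval y q := by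
      rw [map_mul, nabla_mul, pderiv_mul, map_add, map_mul, map_mul]
      ring
    rw [h, pow_add]
    exact Ideal.add_mem _ (Ideal.mul_mem_mul hp.1 hq.2) (Ideal.mul_mem_mul hp.2 hq.1)

lemma T_add {p q : MvPolynomial κ B} {k : ℕ} (hp : T A B y D l₀ p k) (hq : T A B y D l₀ q k) :
    T A B y D l₀ (p + q) k := by
  refine ⟨?_, ?_⟩
  · rw [map_add]; exact Ideal.add_mem _ hp.1 hq.1
  · have h : nabla A B D (aeval y (p + q)) - aeval y (pderiv l₀ (p + q)) =
        (nabla A B D (aeval y p) - aeval y (pderiv l₀ p)) +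
          (nabla A B D (aeval y q) - aeval y (pderiv l₀ q)) := by
      rw [map_add, map_add, map_add, map_add]
      ring
    rw [h]
    exact Ideal.add_mem _ hp.2 hq.2

lemma T_zero (k : ℕ) : T A B y D l₀ 0 k := by
  simp [T]

lemma T_smul {p : MvPolynomial κ B} {k : ℕ} (c : B) (hp : T A B y D l₀ p k) :
    T A B y D l₀ (c • p) k := by
  refine ⟨?_, ?_⟩
  · rw [map_smul, Algebra.smul_def]; exact Ideal.mul_mem_left _ _ hp.1
  · have h : nabla A B D (aeval y (c • p)) - aeval y (pderiv l₀ (c • p)) =
        c • (nabla A B D (aeval y p) - aeval y (pderiv l₀ p)) := by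
      rw [map_smul, map_smul, Derivation.map_smul, map_smul, smul_sub]
    rw [h, Algebra.smul_def]
    exact Ideal.mul_mem_left _ _ hp.2

variable (hy : ∀ m, y m ∈ KaehlerDifferential.ideal A B)
  (hδ : ∀ m, nabla A B D (y m) - (if m = l₀ then 1 else 0) ∈ KaehlerDifferential.ideal A B)

include hy hδ in
lemma T_X (m : κ) : T A B y D l₀ (X m) 1 := by
  classical
  refine ⟨?_, ?_⟩
  · rw [aeval_X, pow_one]; exact hy m
  · rw [aeval_X, pderiv_X, pow_one]
    have : (aeval y) (Pi.single (M := fun _ => MvPolynomial κ B) l₀ 1 m) =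
        (if m = l₀ then (1 : B ⊗[A] B) else 0) := by
      by_cases h : m = l₀
      · subst h; simp
      · rw [Pi.single_eq_of_ne h, if_neg h, map_zero]
    rw [this]
    exact hδ m

include hy hδ in
lemma T_monomial (d : κ →₀ ℕ) : T A B y D l₀ (monomial d 1) d.degree := by
  induction d using Finsupp.induction_linear with
  | zero =>
    rw [map_zero]
    exact T_one A B y D l₀
  | add d₁ d₂ h₁ h₂ =>
    have : (monomial (d₁ + d₂) (1 : B)) = monomial d₁ 1 * monomial d₂ 1 := by
      rw [monomial_mul, one_mul]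
    rw [this, map_add]
    exact T_mul A B y D l₀ h₁ h₂
  | single m k =>
    induction k with
    | zero =>
      rw [Finsupp.single_zero, map_zero]
      exact T_one A B y D l₀
    | succ k ih =>
      have h1 : (monomial (Finsupp.single m (k + 1)) (1 : B)) =
          monomial (Finsupp.single m k) 1 * X m := by
        rw [X, monomial_mul, one_mul, ← Finsupp.single_add]
      have h2 : (Finsupp.single m (k + 1)).degree = (Finsupp.single m k).degree + 1 := by
        simp [Finsupp.degree_single]
      rw [h1, h2]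
      exact T_mul A B y D l₀ ih (T_X A B y D l₀ hy hδ m)

include hy hδ in
lemma T_hom (F : MvPolynomial κ B) (k : ℕ) (hF : F.IsHomogeneous k) : T A B y D l₀ F k := by
  classical
  rw [F.as_sum]
  refine Finset.sum_induction _ (fun p => T A B y D l₀ p k) (fun p q hp hq => T_add A B y D l₀ hp hq)
    (T_zero A B y D l₀ k) ?_
  intro d hd
  have hdeg : d.degree = k := by
    by_contra hne
    exact (mem_support_iff.mp hd) (hF.coeff_eq_zero hne)
  have : monomial d (coeff d F) = coeff d F • monomial d (1 : B) := by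
    rw [smul_monomial, smul_eq_mul, mul_one]
  rw [this, ← hdeg]
  exact T_smul A B y D l₀ _ (T_monomial A B y D l₀ hy hδ d)

end T

end Groth.Agent.H5.DS0
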