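import Mathlib
import Groth.Prelude.Def_PP16
import Groth.Agent.Lib.Helper5.DS0.B

set_option autoImplicit false

namespace Groth.Agent.H5.DS0

open TensorProduct MvPolynomial

universe u

section main

variable (A B : Type u) [CommRing A] [CommRing B] [Algebra A B] [Algebra ℚ B]
  {κ : Type*} [DecidableEq κ] (y : κ → B ⊗[A] B) (D : κ → Derivation A B B)

local notation "II" => KaehlerDifferential.ideal A B

lemma isUnit_natCast (k : ℕ) (hk : k ≠ 0) : IsUnit ((k : ℕ) : B) := by
  have : ((k : ℕ) : B) = algebraMap ℚ B (k : ℚ) := by simp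
  rw [this]
  exact (IsUnit.mk0 (k : ℚ) (Nat.cast_ne_zero.mpr hk)).map _

omit [DecidableEq κ] in
/-- A homogeneous polynomial of positive degree all of whose partial derivatives vanish is zero
(over a `ℚ`-algebra). -/
lemma eq_zero_of_pderiv_eq_zero (F : MvPolynomial κ B) (n : ℕ) (hF : F.IsHomogeneous (n + 1))
    (h : ∀ l, pderiv l F = 0) : F = 0 := by
  classical
  ext d'
  rw [coeff_zero]
  by_contra hne
  have hd' : d'.degree = n + 1 := by
    by_contra hdeg
    exact hne (hF.coeff_eq_zero hdeg)
  have hex : ∃ l, d' l ≠ 0 := by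
    by_contra hall
    push Not at hall
    have : d' = 0 := by ext l; exact hall l
    rw [this, map_zero] at hd'
    omega
  obtain ⟨l, hl⟩ := hex
  have h1 := coeff_pderiv (i := l) F (d' - Finsupp.single l 1)
  rw [h l, coeff_zero] at h1
  have h2 : d' - Finsupp.single l 1 + Finsupp.single l 1 = d' := by
    ext m
    by_cases hm : m = l
    · subst hm
      simp only [Finsupp.coe_add, Finsupp.coe_tsub, Pi.add_apply, Pi.sub_apply,
        Finsupp.single_eq_same]
      omega
    · simp [Finsupp.single_eq_of_ne hm]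
  rw [h2] at h1
  have h3 : ((((d' - Finsupp.single l 1 : κ →₀ ℕ) l : ℕ) : B)) + 1 = ((d' l : ℕ) : B) := by
    have : (d' - Finsupp.single l 1 : κ →₀ ℕ) l + 1 = d' l := by
      simp only [Finsupp.coe_tsub, Pi.sub_apply, Finsupp.single_eq_same]
      omega
    rw [← this]
    push_cast
    rfl
  rw [h3] at h1
  exact hne ((isUnit_natCast B (d' l) hl).mul_left_eq_zero.mp h1.symm)

variable (hy : ∀ m, y m ∈ KaehlerDifferential.ideal A B)
  (hδ : ∀ l m, nabla A B (D l) (y m) - (if m = l then 1 else 0) ∈ KaehlerDifferential.ideal A B)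

include hy hδ in
theorem eq_zero_of_aeval_mem : ∀ (n : ℕ) (F : MvPolynomial κ B), F.IsHomogeneous n →
    aeval y F ∈ II ^ (n + 1) → F = 0 := by
  intro n
  induction n with
  | zero =>
    intro F hF hmem
    have hP : F = C (F.coeff 0) := by
      ext d
      rw [coeff_C]
      split_ifs with h
      · rw [h]
      · apply hF.coeff_eq_zero
        intro h0
        apply h
        have : d.degree = 0 := h0
        rw [Finsupp.degree_eq_zero_iff] at this
        exact this.symm
    rw [hP, aeval_C, zero_add, pow_one, GrSym.algebraMap_mem_ideal_iff] at hmem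
    rw [hP, hmem, map_zero]
  | succ n ih =>
    intro F hF hmem
    apply eq_zero_of_pderiv_eq_zero B F n hF
    intro l
    apply ih (pderiv l F) hF.pderiv
    have hT := T_hom A B y (D l) l hy (hδ l) F (n + 1) hF
    have h1 := nabla_mem A B (D l) (n + 1) _ hmem
    have h2 := Ideal.sub_mem _ h1 hT.2
    rwa [sub_sub_cancel] at h2

end main

end Groth.Agent.H5.DS0
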