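import Mathlib
import Groth.Prelude.Def_PP16
import Groth.Agent.Lib.Helper5.SymPow.E
import Groth.Agent.Lib.Helper5.DS0.C

set_option autoImplicit false

namespace Groth.Agent.H5.DS0

open TensorProduct MvPolynomial

universe u

section hom

variable {B₀ ι' : Type u} [CommRing B₀] [Fintype ι'] {F : Type*} [AddCommGroup F] [Module B₀ F]
  {κ : Type*} (b : Module.Basis κ B₀ F)

lemma linForm_isHomogeneous (v : F) : (SymPow.linForm b v).IsHomogeneous 1 := by
  have : LinearMap.range (SymPow.linForm b) ≤ homogeneousSubmodule κ B₀ 1 := by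
    rw [SymPow.linForm, Module.Basis.constr_range, Submodule.span_le]
    rintro _ ⟨k, rfl⟩
    exact isHomogeneous_X B₀ k
  exact this ⟨v, rfl⟩

lemma theta_isHomogeneous' (w : Sym[B₀] ι' F) :
    (SymPow.theta (B₀ := B₀) (ι := ι') b w).IsHomogeneous (Fintype.card ι') := by
  have hw : w ∈ Submodule.span B₀ (Set.range (SymmetricPower.tprod B₀ (ι := ι') (M := F))) := by
    rw [SymmetricPower.span_tprod_eq_top]; trivial
  refine Submodule.span_induction ?_ ?_ ?_ ?_ hw
  · rintro _ ⟨v, rfl⟩
    rw [SymPow.theta_tprod]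
    have := IsHomogeneous.prod Finset.univ (fun i => SymPow.linForm b (v i)) (fun _ => 1)
      (fun i _ => linForm_isHomogeneous b (v i))
    simpa using this
  · rw [map_zero]; exact isHomogeneous_zero _ _ _
  · intro x y _ _ hx hy
    rw [map_add]; exact hx.add hy
  · intro a x _ hx
    rw [map_smul]
    exact (homogeneousSubmodule κ B₀ (Fintype.card ι')).smul_mem a hx

end hom

section rep

variable (A B : Type u) [CommRing A] [CommRing B] [Algebra A B]
  {κ : Type*} (b : Module.Basis κ B (KaehlerDifferential.ideal A B).Cotangent)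
  (x : κ → KaehlerDifferential.ideal A B)
  (hx : ∀ m, (KaehlerDifferential.ideal A B).toCotangent (x m) = b m)

local notation "II" => KaehlerDifferential.ideal A B

/-- The representative in `B ⊗ B` of a differential, linear in the differential. -/
noncomputable def Rep : (II).Cotangent →ₗ[B] B ⊗[A] B :=
  (aeval (fun m => (x m : B ⊗[A] B))).toLinearMap ∘ₗ SymPow.linForm b

include hx in
lemma rep_spec (v : (II).Cotangent) :
    ∃ h : Rep A B b x v ∈ II, (II).toCotangent ⟨Rep A B b x v, h⟩ = v := by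
  have hv : v ∈ Submodule.span B (Set.range b) := by rw [b.span_eq]; trivial
  refine Submodule.span_induction ?_ ?_ ?_ ?_ hv
  · rintro _ ⟨m, rfl⟩
    have h1 : Rep A B b x (b m) = (x m : B ⊗[A] B) := by
      simp [Rep]
    refine ⟨h1 ▸ (x m).2, ?_⟩
    have h2 : (⟨Rep A B b x (b m), h1 ▸ (x m).2⟩ : II) = x m := Subtype.ext h1
    rw [h2, hx m]
  · refine ⟨by rw [map_zero]; exact Ideal.zero_mem _, ?_⟩
    have : (⟨Rep A B b x 0, by rw [map_zero]; exact Ideal.zero_mem _⟩ : II) = 0 :=
      Subtype.ext (map_zero _)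
    rw [this, map_zero]
  · rintro v₁ v₂ _ _ ⟨h₁, e₁⟩ ⟨h₂, e₂⟩
    refine ⟨by rw [map_add]; exact Ideal.add_mem _ h₁ h₂, ?_⟩
    have : (⟨Rep A B b x (v₁ + v₂), by rw [map_add]; exact Ideal.add_mem _ h₁ h₂⟩ : II) =
        ⟨Rep A B b x v₁, h₁⟩ + ⟨Rep A B b x v₂, h₂⟩ := Subtype.ext (map_add _ _ _)
    rw [this, map_add, e₁, e₂]
  · rintro c v _ ⟨h, e⟩
    have hmem : Rep A B b x (c • v) ∈ II := by
      rw [map_smul, Algebra.smul_def]; exact Ideal.mul_mem_left _ _ h
    refine ⟨hmem, ?_⟩
    have : (⟨Rep A B b x (c • v), hmem⟩ : II) =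
        (algebraMap B (B ⊗[A] B) c) • ⟨Rep A B b x v, h⟩ := by
      apply Subtype.ext
      change Rep A B b x (c • v) = algebraMap B (B ⊗[A] B) c • Rep A B b x v
      rw [map_smul, algebraMap_smul]
    rw [this, map_smul, e, algebraMap_smul]

end rep

end Groth.Agent.H5.DS0
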