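import Mathlib
import Groth.Prelude.Def_PP16
import Groth.Agent.Lib.Helper5.DS0.D

set_option autoImplicit false

namespace Groth.Agent.H5.DS0

open TensorProduct MvPolynomial

universe u

section compat

variable (A B : Type u) [CommRing A] [CommRing B] [Algebra A B]
  {κ : Type*} (b : Module.Basis κ B (KaehlerDifferential.ideal A B).Cotangent)
  (x : κ → KaehlerDifferential.ideal A B)
  (hx : ∀ m, (KaehlerDifferential.ideal A B).toCotangent (x m) = b m)
  {ι' : Type u} [Fintype ι']
  (φ : Sym[B] ι' (KaehlerDifferential.ideal A B).Cotangent →ₗ[B]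
    (↥(GrSym.Nn A B (Fintype.card ι')) ⧸
      (GrSym.Nn A B (Fintype.card ι' + 1)).comap (GrSym.Nn A B (Fintype.card ι')).subtype))
  (hφ : ∀ x : ι' → KaehlerDifferential.ideal A B,
    φ (SymmetricPower.tprod B fun i => (KaehlerDifferential.ideal A B).toCotangent (x i)) =
    GrSym.cls (KaehlerDifferential.ideal A B) (GrSym.Nn A B (Fintype.card ι'))
      (GrSym.Nn A B (Fintype.card ι' + 1))
      (GrSym.hNn A B _) (∏ i, (x i : B ⊗[A] B))
      (GrSym.prod_mem (KaehlerDifferential.ideal A B) x))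

local notation "II" => KaehlerDifferential.ideal A B

include hx hφ in
lemma exists_mem_and_eq (w : Sym[B] ι' (II).Cotangent) :
    ∃ h : aeval (fun m => (x m : B ⊗[A] B)) (SymPow.theta (B₀ := B) (ι := ι') b w) ∈
        II ^ Fintype.card ι',
      φ w = GrSym.cls (II) (GrSym.Nn A B (Fintype.card ι')) (GrSym.Nn A B (Fintype.card ι' + 1))
        (GrSym.hNn A B _) _ h := by
  have hw : w ∈ Submodule.span B (Set.range (SymmetricPower.tprod B (ι := ι')
      (M := (II).Cotangent))) := by
    rw [SymmetricPower.span_tprod_eq_top]; trivial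
  refine Submodule.span_induction ?_ ?_ ?_ ?_ hw
  · rintro _ ⟨v, rfl⟩
    choose hmem hcot using fun l => rep_spec A B b x hx (v l)
    have e1 : aeval (fun m => (x m : B ⊗[A] B)) (SymPow.theta (B₀ := B) (ι := ι') b
        (SymmetricPower.tprod B v)) = ∏ l, Rep A B b x (v l) := by
      rw [SymPow.theta_tprod, map_prod]
      rfl
    have hprod : ∏ l, Rep A B b x (v l) ∈ II ^ Fintype.card ι' :=
      GrSym.prod_mem II (fun l => ⟨Rep A B b x (v l), hmem l⟩)
    refine ⟨e1 ▸ hprod, ?_⟩
    have hv : v = fun l => (II).toCotangent ⟨Rep A B b x (v l), hmem l⟩ := by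
      funext l; exact (hcot l).symm
    conv_lhs => rw [hv]
    rw [hφ]
    exact GrSym.cls_congr' (II) _ _ _ e1.symm _ _
  · refine ⟨by rw [map_zero, map_zero]; exact Ideal.zero_mem _, ?_⟩
    rw [map_zero]
    exact GrSym.cls_congr' (II) _ _ _ (by rw [map_zero, map_zero]) (Ideal.zero_mem _) _
  · rintro a c _ _ ⟨ha, ha'⟩ ⟨hc, hc'⟩
    refine ⟨by rw [map_add, map_add]; exact Ideal.add_mem _ ha hc, ?_⟩
    rw [map_add, ha', hc', ← GrSym.cls_add]
    exact GrSym.cls_congr' (II) _ _ _ (by rw [map_add, map_add]) _ _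
  · rintro r a _ ⟨ha, ha'⟩
    refine ⟨by rw [map_smul, map_smul, Algebra.smul_def]; exact Ideal.mul_mem_left _ _ ha, ?_⟩
    rw [map_smul, ha', ← GrSym.cls_smul]
    exact GrSym.cls_congr' (II) _ _ _ (by rw [map_smul, map_smul]) _ _

end compat

section final

variable (A B : Type u) [CommRing A] [CommRing B] [Algebra A B] [Algebra ℚ B]

local notation "II" => KaehlerDifferential.ideal A B

theorem isDiffSmooth_of_free (hΩ : Module.Free B (KaehlerDifferential A B)) :
    PP16.IsDiffSmooth A B := by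
  classical
  haveI := hΩ
  haveI : Module.Projective B (KaehlerDifferential A B) := Module.Projective.of_free
  let κ := Module.Free.ChooseBasisIndex B (KaehlerDifferential A B)
  let b₀ : Module.Basis κ B (KaehlerDifferential A B) :=
    Module.Free.chooseBasis B (KaehlerDifferential A B)
  let b : Module.Basis κ B (II).Cotangent := b₀
  choose x hx using fun m : κ => (II).toCotangent_surjective (b m)
  let D : κ → Derivation A B B := fun l => (b₀.coord l).compDer (KaehlerDifferential.D A B)
  have hδ : ∀ l m, nabla A B (D l) (x m : B ⊗[A] B) - (if m = l then 1 else 0) ∈ II := by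
    intro l m
    have h1 := lmul_nabla A B (b₀.coord l) (x m : B ⊗[A] B) (x m).2
    have h2 : KaehlerDifferential.fromIdeal A B ⟨(x m : B ⊗[A] B), (x m).2⟩ = b₀ m := hx m
    rw [h2, Module.Basis.coord_apply, Module.Basis.repr_self, Finsupp.single_apply] at h1
    have h3 := GrSym.sub_algebraMap_lmul_mem A B (nabla A B (D l) (x m : B ⊗[A] B))
    rw [h1] at h3
    convert h3 using 2
    split_ifs
    · rw [map_one]
    · rw [map_zero]
  apply GrSym.isDiffSmooth_of_cls
  intro ι' _ _
  obtain ⟨φ, hφ⟩ := GrSym.exists_canonical (B₀ := B) (ι := ι') II (GrSym.Nn A B (Fintype.card ι'))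
      (GrSym.Nn A B (Fintype.card ι' + 1)) (GrSym.hNn A B _) (GrSym.hNn A B _)
  have hφ' : ∀ x : ι' → II, φ (SymmetricPower.tprod B fun i => (II).toCotangent (x i)) =
        GrSym.cls (II) (GrSym.Nn A B (Fintype.card ι')) (GrSym.Nn A B (Fintype.card ι' + 1))
          (GrSym.hNn A B _) (∏ i, (x i : B ⊗[A] B)) (GrSym.prod_mem (II) x) := hφ
  refine ⟨φ, hφ', ?_, ?_⟩
  · rw [injective_iff_map_eq_zero]
    intro w hw
    obtain ⟨hmem, heq⟩ := exists_mem_and_eq A B b x hx φ hφ' w
    rw [hw] at heq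
    have hmem' := (GrSym.cls_eq_zero_iff (II) _ _ (GrSym.hNn A B _) (GrSym.hNn A B _) _ hmem).mp
      heq.symm
    have h0 := eq_zero_of_aeval_mem A B (fun m => (x m : B ⊗[A] B)) D (fun m => (x m).2) hδ
      (Fintype.card ι') _ (theta_isHomogeneous' b w) hmem'
    exact SymPow.theta_injective (B₀ := B) (ι := ι') b (fun c => ⟨c, rfl⟩) (by rw [h0, map_zero])
  · exact GrSym.surjective_of_pinned II _ _ (GrSym.hNn A B _) (GrSym.hNn A B _)
        (fun s => ⟨_, GrSym.sub_rho_mem A B s⟩) φ hφ'

end final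

end Groth.Agent.H5.DS0
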